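import Groth.Agent.Lib.HodgeIndex.NegCurves
import Groth.Agent.Lib.Goodman.Main

/-!
# Curves contracted to a point: negativity of the intersection form
-/

set_option autoImplicit false
set_option backward.isDefEq.respectTransparency false
set_option linter.all false

universe u

open CategoryTheory CategoryTheory.Limits AlgebraicGeometry TopologicalSpace Opposite

noncomputable section

namespace GrothLib.NegContract12

open GrothLib.QCoh (stalkLin)
open GrothLib.Cube (Pic clsMod)
open GrothLib.HodgeIndex (isect rep deg curveIdeal cCl)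
open GrothLib.Snapper (IsTop DimLT mixed phi)
open GrothLib.WeakAss (primeAt)
open GrothLib.Goodman (pf rf)

/-- Diagonal dominance. -/
theorem negDef_of_neg_vector {r : ℕ} (Q : Fin r → Fin r → ℤ) (hQ : ∀ i j, Q i j = Q j i)
    (hoff : ∀ i j, i ≠ j → 0 ≤ Q i j) (z : Fin r → ℚ) (hz : ∀ i, 0 ≤ z i)
    (hzQ : ∀ j, ∑ i, z i * (Q i j : ℚ) < 0) (a : Fin r → ℤ) (ha : a ≠ 0) :
    ∑ i, ∑ j, a i * a j * Q i j < 0 := by
  have hzp : ∀ i, 0 < z i := fun j => by
    refine lt_of_le_of_ne (hz j) fun h => (hzQ j).not_ge ?_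
    refine Finset.sum_nonneg fun i _ => ?_
    by_cases hij : i = j
    · rw [hij, ← h, zero_mul]
    · exact mul_nonneg (hz i) (by exact_mod_cast hoff i j hij)
  suffices hq : (∑ i, ∑ j, (a i : ℚ) * a j * Q i j) < 0 by
    exact_mod_cast hq
  let b : Fin r → ℚ := fun i => (a i : ℚ) ^ 2 / z i
  have key : ∀ i j, 2 * ((a i : ℚ) * a j * Q i j) ≤ b i * (z j * Q i j) + b j * (z i * Q i j) := by
    intro i j
    have e : b i * (z j * Q i j) + b j * (z i * Q i j) - 2 * ((a i : ℚ) * a j * Q i j) =
        (Q i j : ℚ) * (((a i : ℚ) * z j - a j * z i) ^ 2 / (z i * z j)) := by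
      have := hzp i
      have := hzp j
      simp only [b]
      field_simp
      ring
    by_cases hij : i = j
    · subst hij
      rw [sub_self, zero_pow two_ne_zero, zero_div, mul_zero, sub_eq_zero] at e
      exact e.ge
    · rw [← sub_nonneg, e]
      exact mul_nonneg (by exact_mod_cast hoff i j hij) (div_nonneg (sq_nonneg _) (mul_pos (hzp i) (hzp j)).le)
  have h1 : (∑ i, ∑ j, b i * (z j * Q i j)) = ∑ i, b i * ∑ j, z j * (Q j i : ℚ) := by
    refine Finset.sum_congr rfl fun i _ => ?_
    rw [Finset.mul_sum]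
    exact Finset.sum_congr rfl fun j _ => by rw [hQ i j]
  have h2 : (∑ i, ∑ j, b j * (z i * Q i j)) = ∑ i, b i * ∑ j, z j * (Q j i : ℚ) := by
    rw [Finset.sum_comm]
    exact Finset.sum_congr rfl fun j _ => by rw [Finset.mul_sum]
  have hle : 2 * (∑ i, ∑ j, (a i : ℚ) * a j * Q i j) ≤ 2 * ∑ i, b i * ∑ j, z j * (Q j i : ℚ) := by
    rw [Finset.mul_sum, two_mul (∑ i, b i * _)]
    nth_rw 1 [← h1]
    rw [← h2, ← Finset.sum_add_distrib]
    refine Finset.sum_le_sum fun i _ => ?_
    rw [Finset.mul_sum, ← Finset.sum_add_distrib]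
    exact Finset.sum_le_sum fun j _ => key i j
  obtain ⟨i₀, hi₀⟩ : ∃ i, a i ≠ 0 := Function.ne_iff.1 ha
  have hneg : (∑ i, b i * ∑ j, z j * (Q j i : ℚ)) < 0 := by
    refine Finset.sum_neg' (fun i _ => mul_nonpos_of_nonneg_of_nonpos (div_nonneg (sq_nonneg _) (hz i)) (hzQ i).le)
      ⟨i₀, Finset.mem_univ _, mul_neg_of_pos_of_neg (div_pos (pow_two_pos_of_ne_zero (by exact_mod_cast hi₀)) (hzp i₀)) (hzQ i₀)⟩
  linarith

variable {X : Scheme.{u}} (k : Type u) [Field k] [X.Over (Spec (CommRingCat.of k))]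
  [IsProper (X ↘ Spec (CommRingCat.of k))] [IsIntegral X] [Smooth (X ↘ Spec (CommRingCat.of k))]
  (hdim : topologicalKrullDim X = ((2 : ℕ) : WithBot ℕ∞))

omit [IsProper (X ↘ Spec (CommRingCat.of k))] [IsIntegral X] [Smooth (X ↘ Spec (CommRingCat.of k))] in
theorem curvePoint_unique {y y' : X} (h : curveIdeal y = curveIdeal y') : y = y' := by
  refine Inseparable.eq (inseparable_iff_closure_eq.2 ?_)
  have := congrArg (fun I : X.IdealSheafData => (I.support : Set X)) h
  simpa [curveIdeal, Scheme.IdealSheafData.coe_support_vanishingIdeal] using this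

omit [IsProper (X ↘ Spec (CommRingCat.of k))] [IsIntegral X] [Smooth (X ↘ Spec (CommRingCat.of k))] in
theorem support_curve {y : X} {C : X.IdealSheafData} (h : curveIdeal y = C) :
    (C.support : Set X) = closure {y} := by
  rw [← h]
  exact Scheme.IdealSheafData.coe_support_vanishingIdeal _

omit [Smooth (X ↘ Spec (CommRingCat.of k))] in
/-- An effective divisor has degree zero on a curve away from it. -/
theorem deg_inv_eq_zero {I : X.IdealSheafData} (hI : PicF.IsInvertible (ClSub.idealMod I)) {y : X} (hy : IsTop 1 y)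
    (hdisj : ∀ x, y ⤳ x → x ∉ (I.support : Set X)) : deg k y (clsMod hI)⁻¹ = 0 := by
  haveI := Euler.isNoetherian_of_proper (X := X) k
  let g := ((DCoh.tensorBi (X := X)).obj (Snapper.ptMod y)).map (ClSub.idealModι I)
  haveI : IsIso g := (OX.isIso_iff g).2 fun x => (ConcreteCategory.isIso_iff_bijective _).2 (by
    show Function.Bijective (stalkLin g x)
    by_cases hx : y ⤳ x
    · have hb := HodgeIndex.stalk_bijective_idealModι I (hdisj x hx)
      obtain ⟨t, ht⟩ := Ref1.exists_gen_of_isInvertible hI x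
      have ht' : Ref1.Gen (Coh.structureModule X) x (stalkLin (ClSub.idealModι I) x t) := by
        have h1 : (fun a : X.presheaf.stalk x => a • stalkLin (ClSub.idealModι I) x t) =
            stalkLin (ClSub.idealModι I) x ∘ fun a => a • t := funext fun a => ((stalkLin _ x).map_smul a t).symm
        show Function.Bijective _
        rw [h1]
        exact hb.comp ht
      have h2 : (fun v => stalkLin g x (Ref1.tmulStalk (Snapper.ptMod y) _ x v t)) =
          fun v => Ref1.tmulStalk (Snapper.ptMod y) _ x v (stalkLin (ClSub.idealModι I) x t) :=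
        funext fun v => Goodman.stalkLin_tensor_tmul _ _ x v t
      have h3 := TensorGen.bijective_tmulStalk (Snapper.ptMod y) _ ht'
      rw [← h2] at h3
      exact (Function.Bijective.of_comp_iff _ (TensorGen.bijective_tmulStalk (Snapper.ptMod y) _ ht)).1 h3
    · have hz : ∀ {E : X.Modules}, PicF.IsInvertible E →
          Subsingleton (((DCoh.tensorBi (X := X)).obj (Snapper.ptMod y)).obj E |>.presheaf.stalk x) :=
        fun hE => QCoh.stalk_subsingleton_of_notMem fun h => hx (specializes_iff_mem_closure.2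
          (Snapper.support_ptMod y ((Euler.support_tF_subset (Euler.isFinLocFreeOfRank_one' hE)) h)))
      haveI := hz hI
      haveI := hz (Euler.isInvertible_structure (X := X))
      exact ⟨fun a b _ => Subsingleton.elim a b, fun b => ⟨0, Subsingleton.elim _ _⟩⟩)
  have e1 := HodgeIndex.euler_sub_eq_mixed k hI (Snapper.ptMod y)
  rw [← HodgeIndex.deg_eq_mixed k hI] at e1
  have e2 : Curv2.euler k X (CohB1.tensorMod (Snapper.ptMod y) (ClSub.idealMod I)) = Curv2.euler k X (Snapper.ptMod y) :=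
    (Euler.euler_of_iso k (asIso g)).trans (Euler.euler_of_iso k (Euler.tFUnitIso (Snapper.ptMod y)))
  rw [e2, sub_self, Int.cast_zero] at e1
  rw [Goodman.deg_inv k hy, ← e1, neg_zero]

include hdim in
/-- The multiplicities of the principal divisor of a function near the curves. -/
theorem exists_neg_vector {r : ℕ} (C : Fin r → X.IdealSheafData) (hC : Function.Injective C)
    (hCi : ∀ i, IsIntegral (C i).subscheme) (hCd : ∀ i, topologicalKrullDim ((C i).support : Set X) = 1)
    (V : X.Opens) (hCV : ∀ i, ((C i).support : Set X) ⊆ V) (g : Γ(X, V))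
    (c : Fin r → X) (hc : ∀ j, ringKrullDim (X.presheaf.stalk (c j)) = 1) (hcV : ∀ j, c j ∈ V)
    (hcC : ∀ i j, curveIdeal (c j) ≠ C i) (hmeet : ∀ j, ∃ x ∈ ((C j).support : Set X), c j ⤳ x)
    (hcg : ∀ j, ¬ IsUnit (X.presheaf.germ V (c j) (hcV j) g))
    (c₀ : X) (hc₀ : ringKrullDim (X.presheaf.stalk c₀) = 1) (hc₀V : c₀ ∈ V)
    (hc₀g : IsUnit (X.presheaf.germ V c₀ hc₀V g)) :
    ∃ z : Fin r → ℚ, (∀ i, 0 ≤ z i) ∧ ∀ j, ∑ i, z i * (isect k (cCl (C i)) (cCl (C j)) : ℚ) < 0 := by
  classical
  haveI := Euler.isNoetherian_of_proper (X := X) k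
  have hO : Coh.IsCoh (Coh.structureModule X) := Kleiman.isCoh_O k
  have hreg := HodgeIndex.regular_of_smooth k (X := X)
  have hX := Goodman.normal_of_regular hreg
  have hηV : genericPoint X ∈ V := Goodman.η_mem hc₀V
  obtain ⟨u, hudef⟩ : ∃ u, u = rf V hηV g := ⟨_, rfl⟩
  have hu : u ≠ 0 := fun h => hc₀g.ne_zero (Goodman.pf_injective c₀ (by rw [Goodman.pf_germ, map_zero, ← hudef, h]))
  let Ts := (Goodman.finite_compl_curves k hdim hηV).toFinset
  have hTs : ∀ z, z ∈ Ts ↔ z ∉ V ∧ IsTop 1 z := fun z => (Goodman.finite_compl_curves k hdim hηV).mem_toFinset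
  -- a bound for the poles
  have hexp : ∀ z : X, ∃ n : ℕ, (n ≠ 0 ↔ z ∈ Ts) ∧ (z ∈ Ts →
      ∀ a ∈ IsLocalRing.maximalIdeal (X.presheaf.stalk z) ^ n, ∃ b, pf z b = u * pf z a) := by
    intro z
    by_cases hz : z ∈ Ts
    · haveI := Goodman.dvr k hdim hX ((hTs z).1 hz).2
      obtain ⟨ϖ, hϖ⟩ := IsDiscreteValuationRing.exists_irreducible (X.presheaf.stalk z)
      obtain ⟨N₀, hN₀⟩ := Goodman.pow_mul_mem (Goodman.frac_pf z) u
        (show ϖ ∈ IsLocalRing.maximalIdeal _ from hϖ.not_isUnit)
      refine ⟨N₀ + 1, by simp [hz], fun _ a ha => ?_⟩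
      obtain ⟨a₁, -, ha₁⟩ := hN₀ (N₀ + 1) (Nat.le_succ _)
      rw [hϖ.maximalIdeal_eq, Ideal.span_singleton_pow, Ideal.mem_span_singleton'] at ha
      obtain ⟨d, rfl⟩ := ha
      exact ⟨d * a₁, by rw [map_mul, ha₁, map_mul]; ring⟩
    · exact ⟨0, by simp [hz], fun h => absurd h hz⟩
  choose n hn0 hn using hexp
  have hTcl : ∀ z ∈ Ts, _root_.BlowUp.IsEffCartierIdeal
      (Scheme.IdealSheafData.vanishingIdeal (⟨closure ({z} : Set X), isClosed_closure⟩ : Closeds X)) :=
    fun z hz => HodgeIndex.eff_curveIdeal k hdim ((hTs z).1 hz).2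
  obtain ⟨I, hIc, hIs, hst⟩ := Goodman.exists_divisor Ts n hn0
    (fun z hz => Goodman.dim_one_of_isTop k hdim ((hTs z).1 hz).2) hTcl
  have hJ : PicF.IsInvertible (ClSub.idealMod I) := IdealModSec.isInvertible_of_isEffCartier hIc
  have hIV : ∀ x ∈ V, x ∉ (I.support : Set X) := by
    intro x hx
    rw [hIs]
    intro hm
    obtain ⟨z, hz, hzm⟩ := Set.mem_iUnion₂.1 hm
    exact ((hTs z).1 hz).1 ((specializes_iff_mem_closure.2 hzm).mem_open V.2 hx)
  have hιη := HodgeIndex.stalk_bijective_idealModι I (hIV _ hηV)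
  have hout : ∀ x : X, ringKrullDim (X.presheaf.stalk x) = 1 → x ∉ Ts → x ∈ V := fun x hx hxT =>
    Classical.not_not.1 fun h => hxT ((hTs x).2 ⟨h, Goodman.isTop_of_dim_one k hdim hx⟩)
  obtain ⟨ψ, hψ⟩ := Goodman.exists_hom_rational hX (ClSub.idealModι I) hιη n
    (fun x hx v => ⟨OmegaBC.sval I x v, hst x hx ▸ LinearMap.mem_range_self _ v, Goodman.stalkLin_idealModι I x v⟩)
    (fun x hx a ha => by
      rw [← hst x hx] at ha
      obtain ⟨v, rfl⟩ := ha
      exact ⟨v, Goodman.stalkLin_idealModι I x v⟩)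
    u hu (fun x hx a ha => by
      by_cases hxT : x ∈ Ts
      · exact hn x hxT a ha
      · exact ⟨X.presheaf.germ V x (hout x hx hxT) g * a, by rw [map_mul, Goodman.pf_germ, hudef]⟩)
  -- surjectivity of the map at points of `V`
  have hψV : ∀ (x : X) (hx : ringKrullDim (X.presheaf.stalk x) = 1) (hxV : x ∈ V),
      Function.Surjective (stalkLin ψ x) ↔ IsUnit (X.presheaf.germ V x hxV g) := by
    intro x hx hxV
    haveI := Goodman.dvr k hdim hX (Goodman.isTop_of_dim_one k hdim hx)
    obtain ⟨ϖ, hϖ⟩ := IsDiscreteValuationRing.exists_irreducible (X.presheaf.stalk x)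
    have hn' : n x = 0 := Classical.not_not.1 fun h => ((hTs x).1 ((hn0 x).1 h)).1 hxV
    exact hψ x hx ϖ hϖ _ (by rw [hn', pow_zero, map_one, mul_one, Goodman.pf_germ, hudef])
  have hψ0 : ψ ≠ 0 := fun h0 => by
    obtain ⟨v, hv⟩ := (hψV c₀ hc₀ hc₀V).2 hc₀g (HomSh.unitStalk c₀ 1)
    rw [h0, Kodaira.stalkLin_zero_apply] at hv
    exact one_ne_zero ((HomSh.unitStalk c₀).map_eq_zero_iff.1 hv.symm)
  haveI : Mono ψ := Euler.mono_of_ne_zero hJ Euler.isInvertible_structure hψ0
  have hψη := Euler.stalkLin_genericPoint_bijective hJ Euler.isInvertible_structure hψ0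
  let P := cokernel ψ
  have hP : Coh.IsCoh P := QCoh.isCoh_cokernel ψ (Euler.isCoh_of_isInvertible hJ) hO
  have hPd : DimLT (CohB1.support P) (1 + 1) :=
    (Snapper.dimLT_of_notMem (Kleiman.isTop_genericPoint hdim).dimLT
      (T := closure {genericPoint X} ∩ CohB1.support P) Set.inter_subset_left
      fun hm => QCoh.notMem_support_cokernel_of_surjective ψ hψη.2 hm.2).mono fun x hx =>
        ⟨by rw [show closure ({genericPoint X} : Set X) = Set.univ from (genericPoint_spec X).def]; trivial, hx⟩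
  have hPc := QCoh.isClosed_support_of_isCoh hP
  have hTf : {y : X | IsTop 1 y ∧ y ∈ CohB1.support P}.Finite :=
    Snapper.finite_of_maximal hPc (fun y hy => hy.2) fun x hx y hy hyx =>
      hx.1.eq_of_specializes hyx (hPd.mono (hPc.closure_subset_iff.2 (Set.singleton_subset_iff.2 hy)))
  let m : X → ℚ := fun y => Snapper.mult P y
  have hsum : ∀ x : Pic X, (isect k x (clsMod hJ)⁻¹ : ℚ) = ∑ y ∈ hTf.toFinset, m y * deg k y x := by
    intro x
    have hs := Snapper.mixed_eq_zero
      (Snapper.phi_sub_sum_mem k (L := fun _ : Fin 1 => rep x) (fun _ => HodgeIndex.isInv_rep x) hP hPd)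
    rw [finsum_eq_sum_of_support_subset _ (s := hTf.toFinset) (fun y hy => by
      rw [Set.Finite.coe_toFinset]
      by_contra hc'
      exact hy (Snapper.topTerm_eq_zero _ fun ht hm => hc' ⟨ht, hm⟩)), map_sub, sub_eq_zero, map_sum,
      Goodman.mixed_cokernel_ideal k hdim hJ ψ x] at hs
    rw [hs]
    refine Finset.sum_congr rfl fun y hy => ?_
    rw [Snapper.topTerm_of _ (hTf.mem_toFinset.1 hy).1, map_nsmul, nsmul_eq_mul]
    rfl
  -- the generic points of the curves
  choose ys hys hye hysC using fun i => HodgeIndex.exists_curve_point k hdim (hCi i) (hCd i)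
  have hdegC : ∀ i (x : Pic X), deg k (ys i) x = (isect k x (cCl (C i)) : ℚ) := fun i x => by
    have h := HodgeIndex.deg_eq_isect k hdim (hys i) x
    rw [h, ← hye i, cCl, dif_pos (HodgeIndex.inv_curveIdeal k hdim (hys i))]
  have hysinj : Function.Injective ys := fun i j h => hC (by rw [← hye i, ← hye j, h])
  let z : Fin r → ℚ := fun i => if ys i ∈ hTf.toFinset then m (ys i) else 0
  refine ⟨z, fun i => ?_, fun j => ?_⟩
  · simp only [z]
    split_ifs
    · exact Nat.cast_nonneg _
    · exact le_rfl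
  -- the divisor has degree zero on each curve
  have hIzero : deg k (ys j) (clsMod hJ)⁻¹ = 0 :=
    deg_inv_eq_zero k hJ (hys j) fun x hx => hIV x (hCV j (by
      rw [support_curve (hye j)]
      exact specializes_iff_mem_closure.1 hx))
  have hj := hsum (cCl (C j))
  rw [HodgeIndex.isect_comm, ← hdegC j, hIzero] at hj
  -- split off the curves themselves
  let S : Finset X := hTf.toFinset.filter fun y => y ∈ Finset.univ.image ys
  have hsplit := Finset.sum_filter_add_sum_filter_not hTf.toFinset (fun y => y ∈ Finset.univ.image ys)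
    fun y => m y * deg k y (cCl (C j))
  have hS : ∑ y ∈ S, m y * deg k y (cCl (C j)) = ∑ i, z i * (isect k (cCl (C i)) (cCl (C j)) : ℚ) := by
    have e : S = (Finset.univ.filter fun i => ys i ∈ hTf.toFinset).image ys := by
      ext y
      simp only [S, Finset.mem_filter, Finset.mem_image, Finset.mem_univ, true_and]
      constructor
      · rintro ⟨hy, i, rfl⟩
        exact ⟨i, hy, rfl⟩
      · rintro ⟨i, hi, rfl⟩
        exact ⟨hi, i, rfl⟩
    rw [e, Finset.sum_image (fun a _ b _ h => hysinj h), Finset.sum_filter]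
    refine Finset.sum_congr rfl fun i _ => ?_
    simp only [z]
    rw [ite_mul, zero_mul, hdegC i, HodgeIndex.isect_comm]
  have hrest : 0 < ∑ y ∈ hTf.toFinset.filter (fun y => y ∉ Finset.univ.image ys), m y * deg k y (cCl (C j)) := by
    have hnn : ∀ y ∈ hTf.toFinset.filter (fun y => y ∉ Finset.univ.image ys), 0 ≤ m y * deg k y (cCl (C j)) := by
      intro y hy
      rw [Finset.mem_filter] at hy
      refine mul_nonneg (Nat.cast_nonneg _) ?_
      rw [← hye j, cCl, dif_pos (HodgeIndex.inv_curveIdeal k hdim (hys j))]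
      exact HodgeIndex.deg_curve_nonneg k hdim (hTf.mem_toFinset.1 hy.1).1 (hys j)
        fun h => hy.2 (Finset.mem_image.2 ⟨j, Finset.mem_univ _, h.symm⟩)
    refine Finset.sum_pos' hnn ⟨c j, ?_, ?_⟩
    · refine Finset.mem_filter.2 ⟨hTf.mem_toFinset.2 ⟨Goodman.isTop_of_dim_one k hdim (hc j), ?_⟩, fun h => ?_⟩
      · exact Goodman.mem_support_of_not_surjective ψ fun hs => hcg j ((hψV _ (hc j) (hcV j)).1 hs)
      · obtain ⟨i, -, hi⟩ := Finset.mem_image.1 h
        exact hcC i j (hi ▸ hye i)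
    · refine mul_pos ?_ ?_
      · have hct := Goodman.isTop_of_dim_one k hdim (hc j)
        refine Nat.cast_pos.2 (Nat.pos_of_ne_zero fun h0 => ?_)
        rw [Snapper.mult, ENat.toNat_eq_zero] at h0
        rcases h0 with h0 | h0
        · exact Goodman.mem_support_of_not_surjective ψ (fun hs => hcg j ((hψV _ (hc j) (hcV j)).1 hs))
            (Module.length_eq_zero_iff.1 h0)
        · exact Snapper.length_ne_top k hP hPd hct h0
      · obtain ⟨x, hx, hcx⟩ := hmeet j
        rw [cCl, dif_pos (HodgeIndex.inv_curve k hdim (hCi j) (hCd j))]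
        have hcs : c j ∉ ((C j).support : Set X) := fun h => hcC j j (by
          rw [support_curve (hye j)] at h
          rw [← hye j, (Goodman.isTop_of_dim_one k hdim (hc j)).eq_of_specializes (specializes_iff_mem_closure.2 h) (hys j).dimLT])
        refine (Goodman.deg_inv_of_hom k (HodgeIndex.inv_curve k hdim (hCi j) (hCd j)) (ClSub.idealModι (C j))
          (Goodman.isTop_of_dim_one k hdim (hc j))
          (QCoh.notMem_support_cokernel_of_surjective _ (HodgeIndex.stalk_bijective_idealModι _ hcs).2)).2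
          ⟨x, hcx, HodgeIndex.not_surjective_idealModι _ hx⟩
  rw [← hsplit, hS] at hj
  linarith

end GrothLib.NegContract12
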